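import Groth.Agent.H8Extend.Bundle
import Groth.Agent.H8Blow.TwoTargets
import Groth.Agent.H17.Ample.OpenInProjective
import Mathlib

/-!
# Compactifications carrying given finite locally free modules
-/

set_option autoImplicit false
set_option linter.style.haveILetI false
set_option backward.isDefEq.respectTransparency false
set_option maxHeartbeats 1000000

universe u v

open AlgebraicGeometry CategoryTheory Limits TopologicalSpace
open Groth.Agent.H7Flat.Flatten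

namespace Groth.Agent.H8Extend

/-- The schematic closure of an open in a scheme proper over the base. -/
theorem exists_closure {X Y S : Scheme.{u}} [QuasiSeparatedSpace S] [CompactSpace X] (j : X ⟶ Y) [IsOpenImmersion j]
    (p : Y ⟶ S) [IsProper p] :
    ∃ (Z : Scheme.{u}) (k : X ⟶ Z) (i : Z ⟶ Y), IsClosedImmersion i ∧ IsOpenImmersion k ∧
      IsSchemeTheoreticallyDominant k ∧ k ≫ i = j := by
  haveI : QuasiSeparatedSpace Y := quasiSeparatedSpace_of_quasiSeparated p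
  haveI : QuasiCompact j := QuasiCompact.of_comp j (terminal.from _)
  exact ⟨j.image, j.toImage, j.imageι, inferInstance, inferInstance, ⟨H17.ker_toImage j⟩, j.toImage_imageι⟩

theorem exists_compactification_bundles {S X : Scheme.{u}} (f : X ⟶ S) [CompactSpace S] [QuasiSeparatedSpace S]
    [IsSeparated f] [QuasiCompact f] [LocallyOfFiniteType f]
    {ι : Type v} [Finite ι] (E : ι → X.Modules) (hE : ∀ i, FlatMod.IsFinLocFree (E i)) :
    ∃ (X' : Scheme.{u}) (j : X ⟶ X') (g : X' ⟶ S), IsOpenImmersion j ∧ QuasiCompact j ∧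
      IsSchemeTheoreticallyDominant j ∧ IsProper g ∧ j ≫ g = f ∧
      ∀ i, ∃ E' : X'.Modules, FlatMod.IsFinLocFree E' ∧
        Nonempty ((Scheme.Modules.pullback j).obj E' ≅ E i) := by
  obtain ⟨n, ⟨e⟩⟩ := Finite.exists_equiv_fin ι
  haveI : CompactSpace X := QuasiCompact.compactSpace_of_compactSpace f
  obtain ⟨Y, j₀, p, hj₀, -, hp, hjp⟩ := exists_compactification f
  haveI := hj₀; haveI := hp
  obtain ⟨Z, k, i, hi, hk, hkd, hki⟩ := exists_closure j₀ p
  haveI := hi; haveI := hk; haveI := hkd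
  haveI : CompactSpace Z := QuasiCompact.compactSpace_of_compactSpace (i ≫ p)
  haveI : QuasiSeparatedSpace Z := quasiSeparatedSpace_of_quasiSeparated (i ≫ p)
  obtain ⟨X', π, u, -, hπ, hu, hud, huπ, hext⟩ := exists_bundles_extension k n (E ∘ e.symm) fun a => hE _
  haveI := hπ
  haveI : QuasiSeparatedSpace X' := quasiSeparatedSpace_of_quasiSeparated π
  refine ⟨X', u, π ≫ i ≫ p, hu, QuasiCompact.of_comp u (terminal.from _), hud, inferInstance,
    by rw [← Category.assoc, huπ, ← Category.assoc, hki, hjp], fun a => ?_⟩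
  obtain ⟨E', hE', ⟨φ⟩⟩ := hext (e a)
  exact ⟨E', hE', ⟨φ ≪≫ eqToIso (congrArg E (e.symm_apply_apply a))⟩⟩

theorem exists_projective_compactification_bundles {S X : Scheme.{u}} (f : X ⟶ S) [CompactSpace S]
    [QuasiSeparatedSpace S] (hf : RelProj.IsQuasiProjective f)
    {ι : Type v} [Finite ι] (E : ι → X.Modules) (hE : ∀ i, FlatMod.IsFinLocFree (E i)) :
    ∃ (X' : Scheme.{u}) (j : X ⟶ X') (g : X' ⟶ S), IsOpenImmersion j ∧ QuasiCompact j ∧
      IsSchemeTheoreticallyDominant j ∧ RelProj.IsProjective g ∧ j ≫ g = f ∧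
      ∀ i, ∃ E' : X'.Modules, FlatMod.IsFinLocFree E' ∧
        Nonempty ((Scheme.Modules.pullback j).obj E' ≅ E i) := by
  obtain ⟨n, ⟨e⟩⟩ := Finite.exists_equiv_fin ι
  haveI : QuasiCompact f := hf.2.1
  haveI : CompactSpace X := QuasiCompact.compactSpace_of_compactSpace f
  obtain ⟨Y, j₀, p, hj₀, hp, hjp⟩ := H17.OpenInProj.exists_open_in_projective hf
  haveI := hj₀; haveI := H11Proj.isProper_of_isProjective hp
  obtain ⟨Z, k, i, hi, hk, hkd, hki⟩ := exists_closure j₀ p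
  haveI := hi; haveI := hk; haveI := hkd
  haveI : CompactSpace Z := QuasiCompact.compactSpace_of_compactSpace (i ≫ p)
  haveI : QuasiSeparatedSpace Z := quasiSeparatedSpace_of_quasiSeparated (i ≫ p)
  obtain ⟨-, -, L, hL⟩ := H11Proj.isQuasiProjective_of_isProjective hp
  have hZ : RelProj.IsProjective (i ≫ p) := H11Proj.isProjective_of_isRelAmple
    (H11Ample.isRelAmple_pullback_of_isQuasiAffine (H11Ample.isQuasiAffineHom_of_isEmbedding i
      i.isClosedEmbedding.isEmbedding) hL)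
  obtain ⟨X', π, u, hπp, hπ, hu, hud, huπ, hext⟩ := exists_bundles_extension k n (E ∘ e.symm) fun a => hE _
  haveI := hπ
  haveI : QuasiSeparatedSpace X' := quasiSeparatedSpace_of_quasiSeparated π
  refine ⟨X', u, π ≫ i ≫ p, hu, QuasiCompact.of_comp u (terminal.from _), hud, S9708.result π (i ≫ p) hπp hZ,
    by rw [← Category.assoc, huπ, ← Category.assoc, hki, hjp], fun a => ?_⟩
  obtain ⟨E', hE', ⟨φ⟩⟩ := hext (e a)
  exact ⟨E', hE', ⟨φ ≪≫ eqToIso (congrArg E (e.symm_apply_apply a))⟩⟩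

/-- Opens of a scheme of finite type over a Noetherian scheme are quasi-compact. -/
theorem compactSpace_of_openImmersion {S X U : Scheme.{u}} [IsNoetherian S] (f : X ⟶ S) [QuasiCompact f]
    [LocallyOfFiniteType f] (j : U ⟶ X) [IsOpenImmersion j] : CompactSpace U := by
  haveI : IsLocallyNoetherian X := LocallyOfFiniteType.isLocallyNoetherian f
  haveI : CompactSpace X := QuasiCompact.compactSpace_of_compactSpace f
  haveI : IsNoetherian X := ⟨⟩
  exact isCompact_univ_iff.mp (by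
    rw [j.isOpenEmbedding.isEmbedding.isCompact_iff]
    exact NoetherianSpace.isCompact _)

theorem exists_proper_extension_open {S X : Scheme.{u}} (f : X ⟶ S)
    [IsNoetherian S] [IsSeparated f] [QuasiCompact f] [LocallyOfFiniteType f]
    (U : X.Opens) [IsSchemeTheoreticallyDominant U.ι] (E : (U : Scheme.{u}).Modules) (hE : FlatMod.IsFinLocFree E) :
    ∃ (X' : Scheme.{u}) (π : X' ⟶ X) (E' : X'.Modules), IsProper π ∧ IsIso (π ∣_ U) ∧
      IsSchemeTheoreticallyDominant (π ⁻¹ᵁ U).ι ∧ FlatMod.IsFinLocFree E' ∧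
      Nonempty ((Scheme.Modules.pullback (π ⁻¹ᵁ U).ι).obj E' ≅ (Scheme.Modules.pullback (π ∣_ U)).obj E) := by
  haveI : CompactSpace X := QuasiCompact.compactSpace_of_compactSpace f
  haveI : QuasiSeparatedSpace X := quasiSeparatedSpace_of_quasiSeparated f
  haveI : CompactSpace (U : Scheme.{u}) := compactSpace_of_openImmersion f U.ι
  obtain ⟨X', π, u, E', -, hπ, hu, hud, huπ, hiso, hE', ⟨φ⟩⟩ := exists_bundle_extension U.ι E hE
  rw [Scheme.Opens.opensRange_ι] at hiso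
  haveI := hiso; haveI := hud
  have e : (π ∣_ U) ≫ u = (π ⁻¹ᵁ U).ι := by
    refine eq_of_mono_restrict π U _ _ ?_ ?_
    · rw [Category.assoc, huπ, morphismRestrict_ι]
    · rw [Category.assoc, huπ]
      rintro _ ⟨x, rfl⟩
      exact ((π ∣_ U) x).2
  refine ⟨X', π, E', hπ, hiso, by rw [← e]; infer_instance, hE', ⟨?_⟩⟩
  exact (Scheme.Modules.pullbackCongr e.symm).app E' ≪≫ ((Scheme.Modules.pullbackComp (π ∣_ U) u).app E').symm ≪≫
    (Scheme.Modules.pullback (π ∣_ U)).mapIso φ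

/-- One side of a proper quasi-domination pulled back along a modification. -/
theorem exists_side_modification {S U X X' X₁ : Scheme.{u}} (q : X ⟶ S) [IsSeparated q] (π : X' ⟶ X) [IsProper π]
    (g₁ : X₁ ⟶ S) (j : U ⟶ X) (j₁ : U ⟶ X₁) (u : U ⟶ X') [IsSchemeTheoreticallyDominant u] (hu : u ≫ π = j)
    (h : ∃ (W : X.Opens) (l : U ⟶ (W : Scheme.{u})) (p : (W : Scheme.{u}) ⟶ X₁) (hp : W.ι ≫ q = p ≫ g₁),
      l ≫ W.ι = j ∧ l ≫ p = j₁ ∧ IsProper p ∧ IsClosed (Set.range (fun x => pullback.lift W.ι p hp x))) :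
    ∃ (W' : X'.Opens) (φ : (W' : Scheme.{u}) ⟶ X₁) (hφ : W'.ι ≫ π ≫ q = φ ≫ g₁) (l' : U ⟶ (W' : Scheme.{u})),
      IsSchemeTheoreticallyDominant W'.ι ∧ IsProper φ ∧ l' ≫ W'.ι = u ∧ l' ≫ φ = j₁ ∧
      IsClosed (Set.range (fun w => (pullback.lift W'.ι φ hφ) w)) := by
  obtain ⟨W, l, p, hp, hl, hlp, hpp, -⟩ := h
  haveI := hpp
  let φ := (π ∣_ W) ≫ p
  have hφ : (π ⁻¹ᵁ W).ι ≫ π ≫ q = φ ≫ g₁ := by
    rw [← Category.assoc, ← morphismRestrict_ι, Category.assoc, hp, Category.assoc]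
  have hle : Set.range u ⊆ Set.range (π ⁻¹ᵁ W).ι := by
    rw [Scheme.Opens.range_ι]
    rintro _ ⟨t, rfl⟩
    show π (u t) ∈ W
    rw [← Scheme.Hom.comp_apply, hu, ← hl, Scheme.Hom.comp_apply]
    exact (l t).2
  let l' := IsOpenImmersion.lift (π ⁻¹ᵁ W).ι u hle
  have hl' : l' ≫ (π ⁻¹ᵁ W).ι = u := IsOpenImmersion.lift_fac _ _ _
  have hl'' : l' ≫ (π ∣_ W) = l := by
    rw [← cancel_mono W.ι, Category.assoc, morphismRestrict_ι, ← Category.assoc, hl', hu, hl]
  refine ⟨π ⁻¹ᵁ W, φ, hφ, l', ⟨?_⟩, inferInstance, hl', by rw [← Category.assoc, hl'', hlp], ?_⟩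
  · rw [eq_bot_iff, ← u.ker_eq_bot, ← hl']
    exact Scheme.Hom.le_ker_comp _ _
  · let G := pullback.lift (f := π ≫ q) (g := g₁) (π ⁻¹ᵁ W).ι φ hφ
    haveI : IsProper (G ≫ pullback.snd (π ≫ q) g₁) := by rw [pullback.lift_snd]; infer_instance
    haveI : IsProper G := IsProper.of_comp G (pullback.snd (π ≫ q) g₁)
    exact G.isClosedMap.isClosed_range

theorem exists_common_quasiDomination_bundle {S X₁ X₂ U : Scheme.{u}}
    [IsNoetherian S] (p₁ : X₁ ⟶ S) (p₂ : X₂ ⟶ S)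
    [IsSeparated p₁] [QuasiCompact p₁] [LocallyOfFiniteType p₁]
    [IsSeparated p₂] [QuasiCompact p₂] [LocallyOfFiniteType p₂]
    (j₁ : U ⟶ X₁) (j₂ : U ⟶ X₂) [IsOpenImmersion j₁] [IsOpenImmersion j₂] (hj : j₁ ≫ p₁ = j₂ ≫ p₂)
    (E : U.Modules) (hE : FlatMod.IsFinLocFree E) :
    ∃ (X : Scheme.{u}) (p : X ⟶ S) (k : U ⟶ X) (E' : X.Modules),
      IsSeparated p ∧ QuasiCompact p ∧ LocallyOfFiniteType p ∧ IsOpenImmersion k ∧ QuasiCompact k ∧
      IsSchemeTheoreticallyDominant k ∧ k ≫ p = j₁ ≫ p₁ ∧ FlatMod.IsFinLocFree E' ∧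
      Nonempty ((Scheme.Modules.pullback k).obj E' ≅ E) ∧
      (∃ (W₁ : X.Opens) (φ₁ : (↑W₁ : Scheme.{u}) ⟶ X₁) (hφ₁ : W₁.ι ≫ p = φ₁ ≫ p₁) (l₁ : U ⟶ ↑W₁),
        IsSchemeTheoreticallyDominant W₁.ι ∧ IsProper φ₁ ∧ l₁ ≫ W₁.ι = k ∧ l₁ ≫ φ₁ = j₁ ∧
        IsClosed (Set.range (fun w => (Limits.pullback.lift W₁.ι φ₁ hφ₁) w))) ∧
      (∃ (W₂ : X.Opens) (φ₂ : (↑W₂ : Scheme.{u}) ⟶ X₂) (hφ₂ : W₂.ι ≫ p = φ₂ ≫ p₂) (l₂ : U ⟶ ↑W₂),
        IsSchemeTheoreticallyDominant W₂.ι ∧ IsProper φ₂ ∧ l₂ ≫ W₂.ι = k ∧ l₂ ≫ φ₂ = j₂ ∧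
        IsClosed (Set.range (fun w => (Limits.pullback.lift W₂.ι φ₂ hφ₂) w))) := by
  haveI : CompactSpace U := compactSpace_of_openImmersion p₁ j₁
  obtain ⟨X, q, hq₁, hq₂, hq₃, j, hjo, hjd, hjq, h₁, h₂⟩ :=
    H8Blow.exists_common_quasiDomination p₁ p₂ j₁ j₂ hj
  haveI := hq₁; haveI := hq₂; haveI := hq₃; haveI := hjo; haveI := hjd
  haveI : CompactSpace X := QuasiCompact.compactSpace_of_compactSpace q
  haveI : QuasiSeparatedSpace X := quasiSeparatedSpace_of_quasiSeparated q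
  obtain ⟨X', π, u, E', -, hπ, hu, hud, huπ, -, hE', hiso⟩ := exists_bundle_extension j E hE
  haveI := hπ; haveI := hud
  haveI : QuasiSeparatedSpace X' := quasiSeparatedSpace_of_quasiSeparated π
  exact ⟨X', π ≫ q, u, E', inferInstance, inferInstance, inferInstance, hu,
    QuasiCompact.of_comp u (terminal.from _), hud, by rw [← Category.assoc, huπ, hjq], hE', hiso,
    exists_side_modification q π p₁ j j₁ u huπ h₁, exists_side_modification q π p₂ j j₂ u huπ h₂⟩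

end Groth.Agent.H8Extend
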